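import Groth.Agent.An92.EtSets.Stalk
import Groth.Agent.S3896
import Groth.Prelude.Def_BigSite

/-!
Direct images of sheaves of sets under the conditions (B) and (C).
-/

universe u

open CategoryTheory CategoryTheory.Limits AlgebraicGeometry Opposite

namespace Groth.Agent.EtSets93

open Groth.Agent.Unr55.EtSh Groth.Agent.An92.EtSets

set_option backward.isDefEq.respectTransparency.types false

variable {X Y : Scheme.{u}}

theorem injective_app {F G : EtDesc.Sh X} (φ : F ⟶ G) [Mono φ] (U : X.Etale) :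
    Function.Injective (φ.hom.app (op U)) := by
  have : Mono φ.hom := (sheafToPresheaf X.smallEtaleTopology (Type (u + 1))).map_mono φ
  exact (CategoryTheory.mono_iff_injective _).1 (NatTrans.mono_iff_mono_app φ.hom |>.1 this (op U))

theorem mono_of_injective_app {F G : EtDesc.Sh X} (φ : F ⟶ G)
    (h : ∀ U, Function.Injective (φ.hom.app (op U))) : Mono φ := by
  have : Mono φ.hom :=
    (NatTrans.mono_iff_mono_app φ.hom).2 fun U => (CategoryTheory.mono_iff_injective _).2 (h U.unop)
  exact (sheafToPresheaf X.smallEtaleTopology (Type (u + 1))).mono_of_mono_map this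

theorem imageSieve_covering {F G : EtDesc.Sh X} (φ : F ⟶ G) [Epi φ] {U : X.Etale}
    (t : G.obj.obj (op U)) (x : U.left) :
    ∃ (W : X.Etale) (g : W ⟶ U) (s : F.obj.obj (op W)) (w : W.left),
      φ.hom.app (op W) s = G.obj.map g.op t ∧ g.left w = x := by
  have := (Sheaf.isLocallySurjective_iff_epi' (A := Type (u + 1)) φ).2 ‹_›
  obtain ⟨W, g, w, ⟨s, hs⟩, hw⟩ :=
    S3896.covering_points (Presheaf.imageSieve_mem X.smallEtaleTopology φ.hom t) x
  exact ⟨W, g, s, w, hs, hw⟩

theorem epi_of_local {F G : EtDesc.Sh X} (φ : F ⟶ G)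
    (h : ∀ (U : X.Etale) (t : G.obj.obj (op U)) (x : U.left),
      ∃ (W : X.Etale) (g : W ⟶ U) (s : F.obj.obj (op W)) (w : W.left),
        φ.hom.app (op W) s = G.obj.map g.op t ∧ g.left w = x) : Epi φ := by
  have : Sheaf.IsLocallySurjective φ := ⟨fun {U} t => mem_topology fun x => by
    obtain ⟨W, g, s, w, hs, hw⟩ := h U t x
    exact ⟨W, g, w, ⟨s, hs⟩, hw⟩⟩
  exact (Sheaf.isLocallySurjective_iff_epi' (A := Type (u + 1)) φ).1 this

/-- Sections agreeing on a jointly surjective family are equal. -/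
theorem sect_ext (F : EtDesc.Sh X) {U : X.Etale} (σ τ : F.obj.obj (op U))
    (h : ∀ x : U.left, ∃ (V : X.Etale) (g : V ⟶ U) (v : V.left),
      g.left v = x ∧ F.obj.map g.op σ = F.obj.map g.op τ) : σ = τ := by
  let S : Sieve U :=
    { arrows := fun V g => F.obj.map g.op σ = F.obj.map g.op τ
      downward_closed := fun {V W g} hg k => by
        rw [op_comp, Functor.map_comp]
        exact congrArg (F.obj.map k.op) hg }
  have hS : S ∈ X.smallEtaleTopology U := mem_topology fun x => by
    obtain ⟨V, g, v, h1, h2⟩ := h x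
    exact ⟨V, g, v, h2, h1⟩
  exact (((isSheaf_iff_isSheaf_of_type _ _).1 F.property) S hS).isSeparatedFor.ext fun V g hg => hg

variable (f : X ⟶ Y)

theorem bc_obj_left (V : Y.Etale) : ((EtCoh.bc f).obj V).left = pullback V.hom f := rfl

theorem exists_surjective_from_bc (hC : BigSite.PropC f) (U : X.Etale) :
    ∃ (V : Y.Etale) (h : (EtCoh.bc f).obj V ⟶ U), Surjective h.left := by
  have : Etale U.hom := U.prop
  obtain ⟨V, v, hv, h, hw, hs⟩ := hC U.left U.hom
  refine ⟨Scheme.Etale.mk v, MorphismProperty.Over.homMk ((pullbackSymmetry v f).hom ≫ h) ?_ trivial, ?_⟩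
  · change ((pullbackSymmetry v f).hom ≫ h) ≫ U.hom = pullback.snd v f
    rw [Category.assoc, hw, pullbackSymmetry_hom_comp_fst]
  · change Surjective ((pullbackSymmetry v f).hom ≫ h)
    infer_instance

theorem reflectsMono_of_propC (hC : BigSite.PropC f) :
    (EtDesc.pushSh f).ReflectsMonomorphisms := ⟨fun {F G} φ hφ => mono_of_injective_app φ fun U σ τ e => by
  obtain ⟨V, h, hs⟩ := exists_surjective_from_bc f hC U
  refine sect_ext F σ τ fun x => ?_
  obtain ⟨v, hv⟩ := h.left.surjective x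
  refine ⟨_, h, v, hv, injective_app ((EtDesc.pushSh f).map φ) V ?_⟩
  change φ.hom.app (op ((EtCoh.bc f).obj V)) _ = φ.hom.app (op ((EtCoh.bc f).obj V)) _
  rw [NatTrans.naturality_apply φ.hom h.op σ, NatTrans.naturality_apply φ.hom h.op τ, e]⟩

theorem exists_point_lift {A B : Scheme.{u}} (g : A ⟶ B) (v : B ⟶ Y) (w : A ⟶ Y) (hgw : g ≫ v = w)
    (a : A) (z : ↥(pullback v f)) (h : g a = pullback.fst v f z) :
    ∃ q : ↥(pullback w f), pullback.lift (pullback.fst w f ≫ g) (pullback.snd w f)
      (by rw [Category.assoc, hgw, pullback.condition]) q = z := by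
  subst hgw
  obtain ⟨q, hq1, hq2⟩ := Scheme.Pullback.exists_preimage_pullback (f := g) (g := pullback.fst v f) a z h
  refine ⟨(pullbackRightPullbackFstIso v f g).hom q, ?_⟩
  rw [← Scheme.Hom.comp_apply, ← hq2]
  have e : (pullbackRightPullbackFstIso v f g).hom ≫
      pullback.lift (pullback.fst (g ≫ v) f ≫ g) (pullback.snd (g ≫ v) f)
        (by rw [Category.assoc, pullback.condition]) = pullback.snd g (pullback.fst v f) := by
    apply pullback.hom_ext
    · rw [Category.assoc, pullback.lift_fst, pullbackRightPullbackFstIso_hom_fst_assoc,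
        pullback.condition]
    · rw [Category.assoc, pullback.lift_snd, pullbackRightPullbackFstIso_hom_snd]
  rw [← e]

theorem symmetry_map {A B : Scheme.{u}} (g : A ⟶ B) (v : B ⟶ Y) :
    (pullbackSymmetry (g ≫ v) f).hom ≫
      pullback.map f (g ≫ v) f v (𝟙 X) g (𝟙 Y) (by simp) (by simp) =
    pullback.lift (pullback.fst (g ≫ v) f ≫ g) (pullback.snd (g ≫ v) f)
      (by rw [Category.assoc, pullback.condition]) ≫ (pullbackSymmetry v f).hom := by
  apply pullback.hom_ext
  · simp only [Category.assoc, pullback.map]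
    rw [pullback.lift_fst, Category.comp_id, pullbackSymmetry_hom_comp_fst, pullbackSymmetry_hom_comp_fst,
      pullback.lift_snd]
  · simp only [Category.assoc, pullback.map]
    rw [pullback.lift_snd, pullbackSymmetry_hom_comp_snd_assoc, pullbackSymmetry_hom_comp_snd, pullback.lift_fst]

theorem reflectsEpi_of_propC (hC : BigSite.PropC f) :
    (EtDesc.pushSh f).ReflectsEpimorphisms := ⟨fun {F G} φ hφ => epi_of_local φ fun U t x => by
  obtain ⟨V, h, hs⟩ := exists_surjective_from_bc f hC U
  obtain ⟨z, hz⟩ := h.left.surjective x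
  obtain ⟨W, g, s, w, hs', hw⟩ := imageSieve_covering ((EtDesc.pushSh f).map φ)
    (U := V) (G.obj.map h.op t) (pullback.fst V.hom f z)
  have hgw : g.left ≫ V.hom = W.hom := Over.w g.hom
  obtain ⟨q, hq⟩ := exists_point_lift f g.left V.hom W.hom hgw w z hw
  refine ⟨(EtCoh.bc f).obj W, (EtCoh.bc f).map g ≫ h, s, q, ?_, ?_⟩
  · rw [op_comp, Functor.map_comp]
    exact hs'
  · rw [← hz, ← hq]
    rfl⟩

theorem preservesEpi_of_propB (hB : BigSite.PropB f) :
    (EtDesc.pushSh f).PreservesEpimorphisms := ⟨fun {F G} φ hφ => epi_of_local _ fun V t x => by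
  have : Etale V.hom := V.prop
  choose U g s w hs hw using fun z : ((EtCoh.bc f).obj V).left => imageSieve_covering φ (t : G.obj.obj _) z
  have hget : ∀ z, Etale ((g z).left ≫ (pullbackSymmetry V.hom f).hom) := fun z => by
    have : Etale ((g z).left ≫ ((EtCoh.bc f).obj V).hom) := by rw [Over.w (g z).hom]; exact (U z).prop
    have : Etale (g z).left := MorphismProperty.of_postcomp @Etale (W' := @Etale) (g z).left
      ((EtCoh.bc f).obj V).hom ((EtCoh.bc f).obj V).prop this
    infer_instance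
  obtain ⟨κ, V', v', hv', hcov, hW⟩ := hB V.left V.hom ((EtCoh.bc f).obj V).left (fun z => (U z).left)
    (fun z => (g z).left ≫ (pullbackSymmetry V.hom f).hom) hget (fun p => by
      refine ⟨(pullbackSymmetry V.hom f).inv p, w _, ?_⟩
      rw [Scheme.Hom.comp_apply, hw]
      exact (Scheme.Hom.comp_apply _ _ p).symm.trans (by rw [Iso.inv_hom_id]; rfl))
  obtain ⟨j, y, hy⟩ := hcov x
  have := hv' j
  let V₁ : Y.Etale := Scheme.Etale.mk (v' j ≫ V.hom)
  let k : V₁ ⟶ V := MorphismProperty.Over.homMk (v' j) rfl trivial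
  obtain ⟨μ, W, hdis, htop, hfac⟩ := hW j
  choose i h hh using hfac
  let B := (EtCoh.bc f).obj V₁
  let O : μ → B.left.Opens := fun a => (pullbackSymmetry (v' j ≫ V.hom) f).hom ⁻¹ᵁ W a
  let r : ∀ a, (O a : Scheme.{u}) ⟶ (W a : Scheme.{u}) := fun a =>
    Scheme.Hom.resLE (pullbackSymmetry (v' j ≫ V.hom) f).hom (W a) (O a) le_rfl
  have hr : ∀ a, (r a ≫ h a) ≫ (g (i a)).left = (O a).ι ≫ ((EtCoh.bc f).map k).left := fun a => by
    refine (cancel_mono (pullbackSymmetry V.hom f).hom).1 ?_
    refine (Category.assoc _ _ _).trans ((Category.assoc _ _ _).trans ?_)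
    refine (congrArg (r a ≫ ·) (hh a)).trans ?_
    rw [← Category.assoc, show r a ≫ (W a).ι = (O a).ι ≫ (pullbackSymmetry (v' j ≫ V.hom) f).hom from
      Scheme.Hom.resLE_comp_ι _ _, Category.assoc]
    refine Eq.trans ?_ (Category.assoc _ _ _).symm
    exact congrArg ((O a).ι ≫ ·) (symmetry_map f (v' j) V.hom)
  let m : ∀ a, openSub B (O a) ⟶ U (i a) := fun a =>
    MorphismProperty.Over.homMk (r a ≫ h a) (by
      change (r a ≫ h a) ≫ (U (i a)).hom = (O a).ι ≫ B.hom
      refine (congrArg ((r a ≫ h a) ≫ ·) (Over.w (g (i a)).hom).symm).trans ?_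
      change (r a ≫ h a) ≫ (g (i a)).left ≫ ((EtCoh.bc f).obj V).hom = _
      rw [← Category.assoc, hr a, Category.assoc]
      exact congrArg ((O a).ι ≫ ·) (Over.w ((EtCoh.bc f).map k).hom)) trivial
  have hm : ∀ a, m a ≫ g (i a) = openSubι B (O a) ≫ (EtCoh.bc f).map k := fun a =>
    MorphismProperty.Over.Hom.ext (hr a)
  have hcovO : Sieve.generate (Presieve.ofArrows _ fun a => openSubι B (O a)) ∈
      X.smallEtaleTopology B := mem_topology fun b => by
    have : (pullbackSymmetry (v' j ≫ V.hom) f).hom b ∈ (⨆ a, W a) := by rw [htop]; trivial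
    obtain ⟨a, ha⟩ := TopologicalSpace.Opens.mem_iSup.1 this
    exact ⟨_, openSubι B (O a), ⟨b, ha⟩, Sieve.le_generate _ _ _ (Presieve.ofArrows.mk a), rfl⟩
  have hsh := (Presieve.isSheafFor_iff_generate _).2
    (((isSheaf_iff_isSheaf_of_type _ _).1 F.property) _ hcovO)
  have hcomp : Presieve.Arrows.Compatible F.obj (fun a => openSubι B (O a))
      (fun a => F.obj.map (m a).op (s (i a))) := by
    intro a b Z p q hpq
    by_cases hab : a = b
    · subst hab
      have : p = q := by
        refine MorphismProperty.Over.Hom.ext ((cancel_mono (O a).ι).1 ?_)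
        exact congrArg (fun l : Z ⟶ B => l.left) hpq
      rw [this]
    · have : IsEmpty Z.left := ⟨fun z => by
        have e : (O a).ι (p.left z) = (O b).ι (q.left z) :=
          congrArg (fun l : Z ⟶ B => l.left z) hpq
        have hne : (pullbackSymmetry (v' j ≫ V.hom) f).hom ((O a).ι (p.left z)) ∈ W a ⊓ W b :=
          ⟨(p.left z).2, by rw [e]; exact (q.left z).2⟩
        rw [(hdis a b hab).eq_bot] at hne
        exact hne⟩
      obtain ⟨hu⟩ := unique_sections_of_isEmpty F Z
      exact (hu.uniq _).trans (hu.uniq _).symm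
  obtain ⟨σ, hσ, -⟩ := (Presieve.isSheafFor_arrows_iff _ _).1 hsh _ hcomp
  refine ⟨V₁, k, σ, y, ?_, hy⟩
  change φ.hom.app (op B) σ = G.obj.map ((EtCoh.bc f).map k).op t
  refine sect_ext G _ _ fun b => ?_
  have : (pullbackSymmetry (v' j ≫ V.hom) f).hom b ∈ (⨆ a, W a) := by rw [htop]; trivial
  obtain ⟨a, ha⟩ := TopologicalSpace.Opens.mem_iSup.1 this
  refine ⟨_, openSubι B (O a), ⟨b, ha⟩, rfl, ?_⟩
  refine (NatTrans.naturality_apply φ.hom (openSubι B (O a)).op σ).symm.trans ?_
  rw [hσ a, NatTrans.naturality_apply φ.hom (m a).op, hs]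
  simp only [← ConcreteCategory.comp_apply, ← Functor.map_comp, ← op_comp, hm a]⟩

end Groth.Agent.EtSets93
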