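import Groth.Prelude.Def_SGA4b
import Groth.Prelude.Def_EtBCD
import Mathlib.CategoryTheory.Sites.LeftExact
import Mathlib.CategoryTheory.Sites.EpiMono
import Mathlib.CategoryTheory.Adhesive.Basic
import Mathlib.CategoryTheory.Limits.Types.Limits
import Groth.Agent.EtSets93.Push
import Groth.Agent.An92.EtSets.Stalk

/-!
Pullback of global sections of sheaves of sets.
-/

universe u

open CategoryTheory CategoryTheory.Limits AlgebraicGeometry Opposite

namespace Groth.Agent.EtSets93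

set_option backward.isDefEq.respectTransparency.types false

variable {X Y : Scheme.{u}} (h : Y ⟶ X)

theorem secPull_naturality {F G : EtDesc.Sh X} (u : F ⟶ G) (s : EtDesc.sect F (EtCoh.top X)) :
    EtDesc.secPull h G (u.hom.app (op (EtCoh.top X)) s) =
      ((EtDesc.pullSh h).map u).hom.app (op (EtCoh.top Y)) (EtDesc.secPull h F s) := by
  have e := (EtDesc.adjSh h).unit.naturality u
  have e' := congrArg (fun v : F ⟶ (EtDesc.pushSh h).obj ((EtDesc.pullSh h).obj G) =>
    v.hom.app (op (EtCoh.top X)) s) e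
  change ((EtDesc.pullSh h).obj G).obj.map _ _ =
    ((EtDesc.pullSh h).map u).hom.app (op (EtCoh.top Y)) (((EtDesc.pullSh h).obj F).obj.map _ _)
  refine (congrArg (((EtDesc.pullSh h).obj G).obj.map (EtCore.bcTopIso h).inv.op) e').trans ?_
  exact (NatTrans.naturality_apply ((EtDesc.pullSh h).map u).hom (EtCore.bcTopIso h).inv.op _).symm

theorem mem_range_secPull (hinj : ∀ F : EtDesc.Sh X, Function.Injective (EtDesc.secPull h F))
    {F G : EtDesc.Sh X} (i : F ⟶ G) [Mono i]
    (hm : Function.Injective (((EtDesc.pullSh h).map i).hom.app (op (EtCoh.top Y))))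
    (ξ : EtDesc.sect ((EtDesc.pullSh h).obj F) (EtCoh.top Y))
    (hξ : ((EtDesc.pullSh h).map i).hom.app (op (EtCoh.top Y)) ξ ∈ Set.range (EtDesc.secPull h G)) :
    ξ ∈ Set.range (EtDesc.secPull h F) := by
  obtain ⟨s, hs⟩ := hξ
  let R := regularMonoOfMono i
  let ev := sheafToPresheaf X.smallEtaleTopology (Type (u + 1)) ⋙ (evaluation _ _).obj (op (EtCoh.top X))
  have hw : ((EtDesc.pullSh h).map i) ≫ (EtDesc.pullSh h).map R.left =
      ((EtDesc.pullSh h).map i) ≫ (EtDesc.pullSh h).map R.right := by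
    rw [← Functor.map_comp, R.w, Functor.map_comp]
  have he : R.left.hom.app (op (EtCoh.top X)) s = R.right.hom.app (op (EtCoh.top X)) s := by
    apply hinj R.Z
    rw [secPull_naturality, secPull_naturality, hs]
    exact congrArg (fun v : (EtDesc.pullSh h).obj F ⟶ (EtDesc.pullSh h).obj R.Z =>
      v.hom.app (op (EtCoh.top Y)) ξ) hw
  have hc := isLimitForkMapOfIsLimit ev R.w R.isLimit
  obtain ⟨t, ht, -⟩ := Types.unique_of_type_equalizer _ _ hc s he
  refine ⟨t, hm ?_⟩
  rw [← secPull_naturality, show i.hom.app (op (EtCoh.top X)) t = s from ht, hs]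

theorem mono_pullSh {F G : EtDesc.Sh X} (i : F ⟶ G) [Mono i] : Mono ((EtDesc.pullSh h).map i) := by
  refine An92.EtSets.mono_of_stalks_sets _ fun K _ _ η => ?_
  let α := (An92.EtSets.stalkPullShIso h η)
  have hi : Function.Injective ((An92.EtSets.stalkSh (η ≫ h)).map i) := by
    intro a b e
    obtain ⟨U, t, σ, τ, rfl, rfl⟩ :=
      (Scheme.pointSmallEtale (η ≫ h)).toPresheafFiber_jointly_surjective₂ (P := F.obj) a b
    obtain ⟨V, g, t', h1, h2⟩ := ((Scheme.pointSmallEtale (η ≫ h)).toPresheafFiber_eq_iff' (P := G.obj) U t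
      (i.hom.app (op U) σ) (i.hom.app (op U) τ)).1
      ((((Scheme.pointSmallEtale (η ≫ h)).toPresheafFiber_naturality_apply i.hom U t σ).symm.trans e).trans
        ((Scheme.pointSmallEtale (η ≫ h)).toPresheafFiber_naturality_apply i.hom U t τ))
    refine ((Scheme.pointSmallEtale (η ≫ h)).toPresheafFiber_eq_iff' (P := F.obj) U t σ τ).2
      ⟨V, g, t', h1, injective_app i V ?_⟩
    exact ((NatTrans.naturality_apply i.hom g.op σ).trans h2).trans (NatTrans.naturality_apply i.hom g.op τ).symm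
  have : Mono ((An92.EtSets.stalkSh (η ≫ h)).map i) := (CategoryTheory.mono_iff_injective _).2 hi
  refine (CategoryTheory.mono_iff_injective _).1 ?_
  have e : (EtDesc.pullSh h ⋙ An92.EtSets.stalkSh η).map i =
      α.hom.app F ≫ (An92.EtSets.stalkSh (η ≫ h)).map i ≫ α.inv.app G := by
    rw [← Category.assoc, ← α.hom.naturality i]; simp
  exact e ▸ inferInstance

theorem subsingleton_hom_bc {Z W : Scheme.{u}} (a : W ⟶ Z) {V : Z.Etale} (hV : V ≅ EtCoh.top Z)
    (A : W.Etale) : Subsingleton (A ⟶ (EtCoh.bc a).obj V) := by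
  refine ⟨fun x y => ?_⟩
  let e : (EtCoh.bc a).obj V ≅ EtCoh.top W := (EtCoh.bc a).mapIso hV ≪≫ EtCore.bcTopIso a
  refine (cancel_mono e.hom).1 ((EtCore.topIsTerminal W).hom_ext _ _)

variable {Xb Yb : Scheme.{u}} (p : Xb ⟶ X) (hb : Yb ⟶ Xb) (pY : Yb ⟶ Y) (w : hb ≫ p = pY ≫ h)

/-- The comparison of pullbacks of global sections along a commutative square. -/
theorem secPull_square (Fb : EtDesc.Sh Xb)
    (s : EtDesc.sect ((EtDesc.pushSh p).obj Fb) (EtCoh.top X)) :
    ((EtDesc.pullSh hb).obj Fb).obj.map (EtCore.bcTopIso pY).inv.op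
        ((EtBC.baseChange0Sh p h pY hb w Fb).hom.app (op (EtCoh.top Y))
          (EtDesc.secPull h ((EtDesc.pushSh p).obj Fb) s)) =
      EtDesc.secPull hb Fb (Fb.obj.map (EtCore.bcTopIso p).inv.op s) := by
  set β := EtBC.baseChange0Sh p h pY hb w Fb with hβ
  have hψ : (EtDesc.adjSh h).unit.app _ ≫ (EtDesc.pushSh h).map β =
      (EtDesc.pushSh p).map ((EtDesc.adjSh hb).unit.app Fb) ≫ (EtDesc.pushCompSh p hb).hom.app _ ≫
      (EtBC.pushCongrSh w).hom.app _ ≫ (EtDesc.pushCompSh h pY).inv.app _ := by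
    exact ((EtDesc.adjSh h).homEquiv_unit _ _ _).symm.trans (Equiv.apply_symm_apply _ _)
  let W := (EtCoh.bc p).obj (EtCoh.top X)
  let η := ((EtDesc.adjSh hb).unit.app Fb).hom
  obtain ⟨α, hα⟩ : ∃ α : (EtCoh.bc pY).obj ((EtCoh.bc h).obj (EtCoh.top X)) ⟶ (EtCoh.bc hb).obj W,
      β.hom.app (op ((EtCoh.bc h).obj (EtCoh.top X)))
        (((EtDesc.adjSh h).unit.app _).hom.app (op (EtCoh.top X)) s) =
      ((EtDesc.pullSh hb).obj Fb).obj.map α.op (η.app (op W) s) := by
    refine ⟨(MorphismProperty.Over.pullbackComp (P := EtCoh.etaleMP) (Q := ⊤) pY h).inv.app _ ≫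
        (MorphismProperty.Over.pullbackCongr (P := EtCoh.etaleMP) (Q := ⊤) w).inv.app _ ≫
        (MorphismProperty.Over.pullbackComp (P := EtCoh.etaleMP) (Q := ⊤) hb p).hom.app _, ?_⟩
    refine (congrArg (fun v : (EtDesc.pushSh p).obj Fb ⟶
      (EtDesc.pushSh h).obj ((EtDesc.pushSh pY).obj ((EtDesc.pullSh hb).obj Fb)) =>
        v.hom.app (op (EtCoh.top X)) s) hψ).trans ?_
    simp only [op_comp, Functor.map_comp]
    rfl
  change ((EtDesc.pullSh hb).obj Fb).obj.map _
      (β.hom.app _ (((EtDesc.pullSh h).obj ((EtDesc.pushSh p).obj Fb)).obj.map _ _)) =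
    ((EtDesc.pullSh hb).obj Fb).obj.map _ (η.app _ (Fb.obj.map _ s))
  refine (congrArg (((EtDesc.pullSh hb).obj Fb).obj.map (EtCore.bcTopIso pY).inv.op)
    ((NatTrans.naturality_apply β.hom (EtCore.bcTopIso h).inv.op _).trans
      (congrArg (((EtDesc.pullSh hb).obj Fb).obj.map ((EtCoh.bc pY).map (EtCore.bcTopIso h).inv).op) hα))).trans ?_
  refine Eq.trans ?_ (congrArg (((EtDesc.pullSh hb).obj Fb).obj.map (EtCore.bcTopIso hb).inv.op)
    (NatTrans.naturality_apply η (EtCore.bcTopIso p).inv.op s)).symm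
  have := subsingleton_hom_bc hb (EtCore.bcTopIso p) (EtCoh.top Yb)
  change (((EtDesc.pullSh hb).obj Fb).obj.map α.op ≫
      ((EtDesc.pullSh hb).obj Fb).obj.map ((EtCoh.bc pY).map (EtCore.bcTopIso h).inv).op ≫
      ((EtDesc.pullSh hb).obj Fb).obj.map (EtCore.bcTopIso pY).inv.op) (η.app (op W) s) =
    (((EtDesc.pullSh hb).obj Fb).obj.map ((EtCoh.bc hb).map (EtCore.bcTopIso p).inv).op ≫
      ((EtDesc.pullSh hb).obj Fb).obj.map (EtCore.bcTopIso hb).inv.op) (η.app (op W) s)
  rw [← Functor.map_comp, ← Functor.map_comp, ← Functor.map_comp, ← op_comp, ← op_comp, ← op_comp]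
  exact congrArg (fun q : EtCoh.top Yb ⟶ (EtCoh.bc hb).obj W =>
    ((EtDesc.pullSh hb).obj Fb).obj.map q.op (η.app (op W) s)) (Subsingleton.elim _ _)

include w

theorem injective_secPull_square (hinj : ∀ F : EtDesc.Sh X, Function.Injective (EtDesc.secPull h F))
    (Fb : EtDesc.Sh Xb) (hm : Mono (EtBC.baseChange0Sh p h pY hb w Fb)) :
    Function.Injective (EtDesc.secPull hb Fb) := by
  intro a b e
  let i := Fb.obj.mapIso (EtCore.bcTopIso p).op.symm
  obtain ⟨a, rfl⟩ := i.toEquiv.surjective a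
  obtain ⟨b, rfl⟩ := i.toEquiv.surjective b
  refine congrArg _ (hinj _ (injective_app (EtBC.baseChange0Sh p h pY hb w Fb) (EtCoh.top Y) ?_))
  refine (((EtDesc.pullSh hb).obj Fb).obj.mapIso (EtCore.bcTopIso pY).op.symm).toEquiv.injective ?_
  exact ((secPull_square h p hb pY w Fb a).trans e).trans (secPull_square h p hb pY w Fb b).symm

theorem bijective_secPull_square (hbij : ∀ F : EtDesc.Sh X, Function.Bijective (EtDesc.secPull h F))
    (Fb : EtDesc.Sh Xb) (hi : IsIso (EtBC.baseChange0Sh p h pY hb w Fb)) :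
    Function.Bijective (EtDesc.secPull hb Fb) := by
  refine ⟨injective_secPull_square h p hb pY w (fun F => (hbij F).1) Fb inferInstance, fun c => ?_⟩
  obtain ⟨c, rfl⟩ :=
    (((EtDesc.pullSh hb).obj Fb).obj.mapIso (EtCore.bcTopIso pY).op.symm).toEquiv.surjective c
  obtain ⟨c, rfl⟩ := (((sheafToPresheaf _ _).mapIso (asIso (EtBC.baseChange0Sh p h pY hb w Fb))).app
    (op (EtCoh.top Y))).toEquiv.surjective c
  obtain ⟨s, rfl⟩ := (hbij _).2 c
  exact ⟨_, (secPull_square h p hb pY w Fb s).symm⟩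

end Groth.Agent.EtSets93
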