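import Groth.Agent.An92.EtSets.Stalk
import Groth.Agent.EtSets93.Push
import Groth.Agent.Unr55.Et.FinitePush

/-!
Stalks of direct images of sheaves of sets along finite morphisms.
-/

universe u

open CategoryTheory CategoryTheory.Limits AlgebraicGeometry Opposite Groth.Agent.FlatMor66

namespace Groth.Agent.EtSets93

open Groth.Agent.Unr55.EtSh Groth.Agent.An92.EtSets

set_option backward.isDefEq.respectTransparency.types false
set_option backward.isDefEq.respectTransparency false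

variable {X Y : Scheme.{u}}

section Glue

/-- Gluing on a cover by disjoint open subschemes. -/
theorem exists_glue_disjoint (F : EtDesc.Sh X) {B : X.Etale} {μ : Type u} (O : μ → B.left.Opens)
    (hdis : ∀ a b, a ≠ b → Disjoint (O a : Set B.left) (O b)) (hcov : ∀ x : B.left, ∃ a, x ∈ O a)
    (σ : ∀ a, F.obj.obj (op (openSub B (O a)))) :
    ∃ τ : F.obj.obj (op B), ∀ a, F.obj.map (openSubι B (O a)).op τ = σ a := by
  have hS : Sieve.generate (Presieve.ofArrows _ fun a => openSubι B (O a)) ∈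
      X.smallEtaleTopology B := mem_topology fun b => by
    obtain ⟨a, ha⟩ := hcov b
    exact ⟨_, openSubι B (O a), ⟨b, ha⟩, Sieve.le_generate _ _ _ (Presieve.ofArrows.mk a), rfl⟩
  have hcomp : Presieve.Arrows.Compatible F.obj (fun a => openSubι B (O a)) σ := by
    intro a b Z p q hpq
    by_cases hab : a = b
    · subst hab
      have : p = q := MorphismProperty.Over.Hom.ext ((cancel_mono (O a).ι).1
        (congrArg (fun l : Z ⟶ B => l.left) hpq))
      rw [this]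
    · have : IsEmpty Z.left := ⟨fun z => by
        have e : (O a).ι (p.left z) = (O b).ι (q.left z) :=
          congrArg (fun l : Z ⟶ B => l.left z) hpq
        exact Set.disjoint_left.1 (hdis a b hab) (p.left z).2
          (show (O a).ι (p.left z) ∈ O b by rw [e]; exact (q.left z).2)⟩
      obtain ⟨hu⟩ := unique_sections_of_isEmpty F Z
      exact (hu.uniq _).trans (hu.uniq _).symm
  obtain ⟨τ, hτ, -⟩ := (Presieve.isSheafFor_arrows_iff _ _).1
    ((Presieve.isSheafFor_iff_generate _).2 (((isSheaf_iff_isSheaf_of_type _ _).1 F.property) _ hS)) _ hcomp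
  exact ⟨τ, hτ⟩

end Glue

variable (f : X ⟶ Y) {Ω : Type u} [Field Ω] [IsSepClosed Ω]
  {η : Spec (CommRingCat.of Ω) ⟶ Y} {ξ : Spec (CommRingCat.of Ω) ⟶ X} (h : ξ ≫ f = η)

theorem ptUpAt_map {V W : Y.Etale} (g : V ⟶ W) (s : Pt η V) :
    (Scheme.pointSmallEtale ξ).fiber.map ((EtCoh.bc f).map g) (ptUpAt f h s) =
      ptUpAt f h ((Scheme.pointSmallEtale η).fiber.map g s) := by
  subst h
  exact (ptUp_map f ξ g s).symm

/-- The component map at a point above `η`, for one sheaf. -/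
noncomputable def pushShDesc (F : EtDesc.Sh X) :
    (stalkSh η).obj ((EtDesc.pushSh f).obj F) ⟶ (stalkSh ξ).obj F :=
  (Scheme.pointSmallEtale η).presheafFiberDesc (P := ((EtDesc.pushSh f).obj F).obj)
    (fun V s => (Scheme.pointSmallEtale ξ).toPresheafFiber ((EtCoh.bc f).obj V) (ptUpAt f h s) F.obj)
    (fun V W g s => by
      refine ((Scheme.pointSmallEtale ξ).toPresheafFiber_w ((EtCoh.bc f).map g) (ptUpAt f h s) F.obj).trans ?_
      rw [ptUpAt_map])

theorem pushShDesc_germ (F : EtDesc.Sh X) {V : Y.Etale} (s : Pt η V)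
    (σ : F.obj.obj (op ((EtCoh.bc f).obj V))) :
    pushShDesc f h F
        ((Scheme.pointSmallEtale η).toPresheafFiber V s ((EtDesc.pushSh f).obj F).obj σ) =
      (Scheme.pointSmallEtale ξ).toPresheafFiber ((EtCoh.bc f).obj V) (ptUpAt f h s) F.obj σ :=
  ConcreteCategory.congr_hom ((Scheme.pointSmallEtale η).toPresheafFiber_presheafFiberDesc
    (P := ((EtDesc.pushSh f).obj F).obj) (T := (stalkSh ξ).obj F)
    (fun V s => (Scheme.pointSmallEtale ξ).toPresheafFiber ((EtCoh.bc f).obj V) (ptUpAt f h s) F.obj) _ V s) σ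

/-- The component map at a point above `η`. -/
noncomputable def pushShMapAt : EtDesc.pushSh f ⋙ stalkSh η ⟶ stalkSh ξ where
  app F := pushShDesc f h F
  naturality F G v := ConcreteCategory.hom_ext _ _ fun a => by
    obtain ⟨V, s, σ, rfl⟩ := (Scheme.pointSmallEtale η).toPresheafFiber_jointly_surjective
      (P := ((EtDesc.pushSh f).obj F).obj) a
    refine (congrArg (pushShDesc f h G) ((Scheme.pointSmallEtale η).toPresheafFiber_naturality_apply
      ((EtDesc.pushSh f).map v).hom V s σ)).trans ?_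
    refine (pushShDesc_germ f h G s _).trans ?_
    refine Eq.trans ?_ (congrArg ((stalkSh ξ).map v) (pushShDesc_germ f h F s σ)).symm
    exact ((Scheme.pointSmallEtale ξ).toPresheafFiber_naturality_apply v.hom _ _ σ).symm

theorem pushShMapAt_germ (F : EtDesc.Sh X) {V : Y.Etale} (s : Pt η V)
    (σ : F.obj.obj (op ((EtCoh.bc f).obj V))) :
    (pushShMapAt f h).app F
        ((Scheme.pointSmallEtale η).toPresheafFiber V s ((EtDesc.pushSh f).obj F).obj σ) =
      (Scheme.pointSmallEtale ξ).toPresheafFiber ((EtCoh.bc f).obj V) (ptUpAt f h s) F.obj σ :=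
  pushShDesc_germ f h F s σ

theorem mem_of_map_openSub {V : Y.Etale} (O : V.left.Opens)
    (p : ((EtCoh.bc f).obj (openSub V O)).left) :
    pullback.fst V.hom f (((EtCoh.bc f).map (openSubι V O)).left p) ∈ O := by
  have e : ((EtCoh.bc f).map (openSubι V O)).left ≫ pullback.fst V.hom f =
      pullback.fst (openSub V O).hom f ≫ O.ι := (EtCoh.isPullback_bc_map f (openSubι V O)).w
  change (((EtCoh.bc f).map (openSubι V O)).left ≫ pullback.fst V.hom f) p ∈ O
  rw [e]
  exact O.range_ι.le ⟨_, rfl⟩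

theorem pushShMapAt_injective [IsFinite f] [IsAlgClosed Ω] (F : EtDesc.Sh X)
    (a b : (stalkSh η).obj ((EtDesc.pushSh f).obj F))
    (hab : ∀ (ξ : Spec (CommRingCat.of Ω) ⟶ X) (h : ξ ≫ f = η),
      (pushShMapAt f h).app F a = (pushShMapAt f h).app F b) : a = b := by
  obtain ⟨V, s, σ, τ, rfl, rfl⟩ := (Scheme.pointSmallEtale η).toPresheafFiber_jointly_surjective₂
    (P := ((EtDesc.pushSh f).obj F).obj) a b
  have : IsFinite (pullback.fst V.hom f) := MorphismProperty.pullback_fst _ _ inferInstance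
  let B := (EtCoh.bc f).obj V
  let A : Set B.left := ⋃ (U : X.Etale) (g : U ⟶ B) (_ : F.obj.map g.op σ = F.obj.map g.op τ), Set.range g.left
  have hA : IsOpen A :=
    isOpen_iUnion fun _ => isOpen_iUnion fun g => isOpen_iUnion fun _ => isOpen_range_left g
  let O : V.left.Opens := ⟨(pullback.fst V.hom f '' Aᶜ)ᶜ,
    ((pullback.fst V.hom f).isClosedMap _ hA.isClosed_compl).isOpen_compl⟩
  have hs : hom η s default ∈ O := by
    rintro ⟨z, hz, hzs⟩
    obtain ⟨ξ, h, hξz⟩ := exists_point_of_fibre f s z hzs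
    have e := (pushShMapAt_germ f h F s σ).symm.trans ((hab ξ h).trans (pushShMapAt_germ f h F s τ))
    obtain ⟨U, g, t, h1, h2⟩ := ((Scheme.pointSmallEtale ξ).toPresheafFiber_eq_iff' (P := F.obj) _ _ σ τ).1 e
    exact hz (Set.mem_iUnion₂.2 ⟨U, g, Set.mem_iUnion.2 ⟨h2, hom ξ t default,
      (congrArg (fun q => hom ξ q default) h1).trans hξz⟩⟩)
  refine ((Scheme.pointSmallEtale η).toPresheafFiber_eq_iff' (P := ((EtDesc.pushSh f).obj F).obj) V s σ τ).2
    ⟨_, openSubι V O, ptOpen O s hs, map_ptOpen O s hs, ?_⟩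
  let k := (EtCoh.bc f).map (openSubι V O)
  refine sect_ext F _ _ fun p => ?_
  have hp : k.left p ∈ A := by
    by_contra hp
    exact mem_of_map_openSub f O p ⟨_, hp, rfl⟩
  obtain ⟨U, g, hUg⟩ := Set.mem_iUnion₂.1 hp
  obtain ⟨hg, w, hw⟩ := Set.mem_iUnion.1 hUg
  obtain ⟨z, hz1, hz2⟩ := Scheme.Pullback.exists_preimage_pullback (f := k.left) (g := g.left) p w hw.symm
  have hke := etale_left k
  have hge := etale_left g
  have hP : Etale ((EtCoh.bc f).obj (openSub V O)).hom := ((EtCoh.bc f).obj (openSub V O)).prop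
  let P : X.Etale := Scheme.Etale.mk (pullback.fst k.left g.left ≫ ((EtCoh.bc f).obj (openSub V O)).hom)
  let q₁ : P ⟶ (EtCoh.bc f).obj (openSub V O) :=
    MorphismProperty.Over.homMk (pullback.fst k.left g.left) rfl trivial
  let q₂ : P ⟶ U := MorphismProperty.Over.homMk (pullback.snd k.left g.left) (by
    have e1 : g.left ≫ B.hom = U.hom := Over.w g.hom
    have e2 : k.left ≫ B.hom = ((EtCoh.bc f).obj (openSub V O)).hom := Over.w k.hom
    change pullback.snd k.left g.left ≫ U.hom = pullback.fst k.left g.left ≫ _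
    rw [← e1, ← e2, ← Category.assoc, ← Category.assoc, pullback.condition]) trivial
  have hq : q₁ ≫ k = q₂ ≫ g := MorphismProperty.Over.Hom.ext pullback.condition
  refine ⟨P, q₁, z, hz1, ?_⟩
  change F.obj.map q₁.op (F.obj.map k.op σ) = F.obj.map q₁.op (F.obj.map k.op τ)
  simp only [← ConcreteCategory.comp_apply, ← Functor.map_comp, ← op_comp, hq]
  simp only [op_comp, Functor.map_comp, ConcreteCategory.comp_apply]
  exact congrArg (F.obj.map q₂.op) hg

/-- A clopen piece over a neighbourhood of `η` carrying a given section at one point above `η`. -/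
structure Piece (η : Spec (CommRingCat.of Ω) ⟶ Y) (F : EtDesc.Sh X) (ξ : GPt f η)
    (b : (stalkSh ξ.1).obj F) (V : Y.Etale) (s : Pt η V) where
  O : ((EtCoh.bc f).obj V).left.Opens
  closed : IsClosed (O : Set ((EtCoh.bc f).obj V).left)
  mem : hom ξ.1 (ptUpAt f ξ.2 s) default ∈ O
  notMem : ∀ ξ' : GPt f η, ξ' ≠ ξ → hom ξ'.1 (ptUpAt f ξ'.2 s) default ∉ O
  sct : F.obj.obj (op (openSub ((EtCoh.bc f).obj V) O))
  germ_sct : (Scheme.pointSmallEtale ξ.1).toPresheafFiber _ (ptOpen O _ mem) F.obj sct = b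

theorem exists_piece [IsFinite f] [IsAlgClosed Ω] (η : Spec (CommRingCat.of Ω) ⟶ Y) (F : EtDesc.Sh X)
    (ξ : GPt f η) (b : (stalkSh ξ.1).obj F) :
    ∃ (V : Y.Etale) (s : Pt η V), Nonempty (Piece f η F ξ b V s) := by
  obtain ⟨ξ, h⟩ := ξ
  obtain ⟨U, t, τ, rfl⟩ := (Scheme.pointSmallEtale ξ).toPresheafFiber_jointly_surjective (P := F.obj) b
  have : Etale U.hom := U.prop
  have ht : hom ξ t ≫ U.hom = ξ := Over.w t
  obtain ⟨W, b', r', P, Q, pr₁, pr₂, j, g, m, hb, hr', hP, hjo, hjc, hg, hmg, hmr, hu⟩ :=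
    exists_clopen_piece f U.hom η (hom ξ t) (by rw [← Category.assoc, ht, h])
  let V : Y.Etale := Scheme.Etale.mk b'
  let s : Pt η V := mkPt _ r' hr'
  let j' : Q ⟶ pullback b' f := j ≫ hP.flip.isoPullback.hom
  have : IsOpenImmersion j' := inferInstance
  have : IsClosedImmersion j' := MorphismProperty.comp_mem _ _ _ hjc inferInstance
  have hj'snd : j' ≫ pullback.snd b' f = j ≫ pr₁ := by
    rw [Category.assoc, IsPullback.isoPullback_hom_snd]
  have hj'fst : j' ≫ pullback.fst b' f = j ≫ pr₂ := by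
    rw [Category.assoc, IsPullback.isoPullback_hom_fst]
  have hmξ : (m ≫ j') ≫ pullback.snd b' f = ξ := by
    rw [Category.assoc, hj'snd, ← hg, ← Category.assoc, hmg, ht]
  have hmfst : (m ≫ j') ≫ pullback.fst b' f = r' := by rw [Category.assoc, hj'fst, hmr]
  have hup : m ≫ j' = hom ξ (ptUpAt f h s) := pullback.hom_ext
    (hmfst.trans (pullback.lift_fst _ _ _).symm) (hmξ.trans (pullback.lift_snd _ _ _).symm)
  let O : ((EtCoh.bc f).obj V).left.Opens := j'.opensRange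
  have hOQ : Set.range O.ι ⊆ Set.range j' := O.range_ι.le
  let k : openSub ((EtCoh.bc f).obj V) O ⟶ U :=
    MorphismProperty.Over.homMk (IsOpenImmersion.lift j' O.ι hOQ ≫ g) (by
      change (IsOpenImmersion.lift j' O.ι hOQ ≫ g) ≫ U.hom = O.ι ≫ pullback.snd b' f
      rw [Category.assoc, hg, ← hj'snd, ← Category.assoc, IsOpenImmersion.lift_fac]) trivial
  have hmem : hom ξ (ptUpAt f h s) default ∈ O := by
    rw [← hup]
    exact ⟨m default, rfl⟩
  refine ⟨V, s, ⟨{
    O := O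
    closed := j'.isClosedEmbedding.isClosed_range
    mem := hmem
    notMem := ?_
    sct := F.obj.map k.op τ
    germ_sct := ?_ }⟩⟩
  · rintro ⟨ξ', h'⟩ hne hc
    let c : Spec (CommRingCat.of Ω) ⟶ pullback b' f := hom ξ' (ptUpAt f h' s)
    let m' := IsOpenImmersion.lift j' c (by
      rintro _ ⟨a, rfl⟩
      rw [default_eq a]
      exact hc)
    have hm' : m' ≫ j' = c := IsOpenImmersion.lift_fac _ _ _
    have := hu m' (by
      rw [← hj'fst, ← Category.assoc, hm']
      exact pullback.lift_fst _ _ _)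
    refine hne (Subtype.ext ?_)
    have hc2 : c ≫ pullback.snd b' f = ξ' := pullback.lift_snd _ _ _
    exact hc2.symm.trans ((congrArg (fun q => q ≫ pullback.snd b' f)
      (hm'.symm.trans (congrArg (fun q => q ≫ j') this))).trans hmξ)
  · refine ((Scheme.pointSmallEtale ξ).toPresheafFiber_w_apply k _ F.obj τ).trans ?_
    refine congrArg (fun q : Pt ξ U => (Scheme.pointSmallEtale ξ).toPresheafFiber U q F.obj τ) (hom_ext ξ ?_)
    change hom ξ (ptOpen O _ hmem) ≫ IsOpenImmersion.lift j' O.ι hOQ ≫ g = hom ξ t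
    rw [← Category.assoc]
    refine (congrArg (· ≫ g) ?_).trans hmg
    refine (cancel_mono j').1 ?_
    rw [Category.assoc, IsOpenImmersion.lift_fac]
    exact (liftOpen_fac O _ hmem).trans hup.symm

theorem piece_refine {η : Spec (CommRingCat.of Ω) ⟶ Y} {F : EtDesc.Sh X} {ξ : GPt f η}
    {b : (stalkSh ξ.1).obj F} {V V' : Y.Etale} (g : V' ⟶ V) (s' : Pt η V')
    (D : Piece f η F ξ b V ((Scheme.pointSmallEtale η).fiber.map g s')) :
    Nonempty (Piece f η F ξ b V' s') := by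
  let k := (EtCoh.bc f).map g
  let O := k.left ⁻¹ᵁ D.O
  have hpt : ∀ ξ' : GPt f η, k.left (hom ξ'.1 (ptUpAt f ξ'.2 s') default) =
      hom ξ'.1 (ptUpAt f ξ'.2 ((Scheme.pointSmallEtale η).fiber.map g s')) default := fun ξ' => by
    rw [← ptUpAt_map f ξ'.2 g s']
    rfl
  have hmem : hom ξ.1 (ptUpAt f ξ.2 s') default ∈ O := by
    change k.left _ ∈ D.O
    rw [hpt]; exact D.mem
  have hr : Set.range (O.ι ≫ k.left) ⊆ Set.range D.O.ι := by
    rintro _ ⟨p, rfl⟩
    rw [D.O.range_ι]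
    exact p.2
  let m : openSub ((EtCoh.bc f).obj V') O ⟶ openSub ((EtCoh.bc f).obj V) D.O :=
    MorphismProperty.Over.homMk (IsOpenImmersion.lift D.O.ι (O.ι ≫ k.left) hr) (by
      change IsOpenImmersion.lift D.O.ι (O.ι ≫ k.left) hr ≫ D.O.ι ≫ _ = O.ι ≫ _
      rw [IsOpenImmersion.lift_fac_assoc, Category.assoc]
      exact congrArg (O.ι ≫ ·) (Over.w k.hom)) trivial
  refine ⟨{
    O := O
    closed := D.closed.preimage k.left.continuous
    mem := hmem
    notMem := ?_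
    sct := F.obj.map m.op D.sct
    germ_sct := ?_ }⟩
  · intro ξ' hne hc
    refine D.notMem ξ' hne ?_
    rw [← hpt]; exact hc
  · refine ((Scheme.pointSmallEtale ξ.1).toPresheafFiber_w_apply m _ F.obj D.sct).trans
      (Eq.trans ?_ D.germ_sct)
    refine congrArg (fun q : Pt ξ.1 _ => (Scheme.pointSmallEtale ξ.1).toPresheafFiber _ q F.obj D.sct)
      (hom_ext ξ.1 ?_)
    refine (cancel_mono D.O.ι).1 ?_
    change (liftOpen O _ hmem ≫ IsOpenImmersion.lift D.O.ι (O.ι ≫ k.left) hr) ≫ D.O.ι =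
      liftOpen D.O _ D.mem ≫ D.O.ι
    rw [Category.assoc, IsOpenImmersion.lift_fac, reassoc_of% liftOpen_fac O _ hmem]
    refine Eq.trans ?_ (liftOpen_fac D.O _ D.mem).symm
    exact congrArg (fun q => hom ξ.1 q) (ptUpAt_map f ξ.2 g s')

theorem pushShMap_surjective [IsFinite f] [IsAlgClosed Ω] (F : EtDesc.Sh X)
    (b : ∀ ξ : GPt f η, (stalkSh ξ.1).obj F) :
    ∃ a : (stalkSh η).obj ((EtDesc.pushSh f).obj F),
      ∀ ξ : GPt f η, (pushShMapAt f ξ.2).app F a = b ξ := by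
  classical
  have : Finite (GPt f η) := finite_GPt f η (f.finite_preimage_singleton _)
  have : Fintype (GPt f η) := Fintype.ofFinite _
  choose V s hD using fun ξ => exists_piece f η F ξ (b ξ)
  obtain ⟨⟨V₀, s₀⟩, hS⟩ := IsCofiltered.inf_objs_exists
    (C := (Scheme.pointSmallEtale η).fiber.Elements) (Finset.univ.image fun ξ : GPt f η => ⟨V ξ, s ξ⟩)
  have hD₀ : ∀ ξ : GPt f η, Nonempty (Piece f η F ξ (b ξ) V₀ s₀) := fun ξ => by
    obtain ⟨⟨g, hg⟩⟩ := @hS ⟨V ξ, s ξ⟩ (Finset.mem_image.2 ⟨ξ, Finset.mem_univ _, rfl⟩)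
    obtain ⟨D⟩ := hD ξ
    exact piece_refine f g s₀ (hg ▸ D)
  let D := fun ξ => (hD₀ ξ).some
  let B₀ := (EtCoh.bc f).obj V₀
  let P : GPt f η → Set B₀.left := fun ξ =>
    ((D ξ).O : Set B₀.left) ∩ ⋂ (ξ' : GPt f η) (_ : ξ' ≠ ξ), ((D ξ').O : Set B₀.left)ᶜ
  have hPo : ∀ ξ, IsOpen (P ξ) := fun ξ =>
    (D ξ).O.2.inter (isOpen_iInter_of_finite fun ξ' => isOpen_iInter_of_finite fun _ =>
      (D ξ').closed.isOpen_compl)
  have hPmem : ∀ ξ : GPt f η, hom ξ.1 (ptUpAt f ξ.2 s₀) default ∈ P ξ := fun ξ =>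
    ⟨(D ξ).mem, Set.mem_iInter₂.2 fun ξ' hne => (D ξ').notMem ξ (Ne.symm hne)⟩
  have hPd : ∀ ξ ξ', ξ ≠ ξ' → Disjoint (P ξ) (P ξ') := fun ξ ξ' hne =>
    Set.disjoint_left.2 fun x hx hx' => Set.mem_iInter₂.1 hx.2 ξ' (Ne.symm hne) hx'.1
  have : IsFinite (pullback.fst V₀.hom f) := MorphismProperty.pullback_fst _ _ inferInstance
  let O : V₀.left.Opens := ⟨(pullback.fst V₀.hom f '' (⋃ ξ, P ξ)ᶜ)ᶜ,
    ((pullback.fst V₀.hom f).isClosedMap _ (isOpen_iUnion hPo).isClosed_compl).isOpen_compl⟩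
  have hs : hom η s₀ default ∈ O := by
    rintro ⟨z, hz, hzs⟩
    obtain ⟨ξ, h, hξz⟩ := exists_point_of_fibre f s₀ z hzs
    exact hz (Set.mem_iUnion.2 ⟨⟨ξ, h⟩, hξz ▸ hPmem ⟨ξ, h⟩⟩)
  let k := (EtCoh.bc f).map (openSubι V₀ O)
  let B := (EtCoh.bc f).obj (openSub V₀ O)
  let O' : GPt f η → B.left.Opens := fun ξ => ⟨k.left ⁻¹' P ξ, (hPo ξ).preimage k.left.continuous⟩
  have hr : ∀ ξ, Set.range ((O' ξ).ι ≫ k.left) ⊆ Set.range (D ξ).O.ι := fun ξ => by
    rintro _ ⟨p, rfl⟩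
    rw [(D ξ).O.range_ι]
    exact (show k.left ((O' ξ).ι p) ∈ P ξ from p.2).1
  let m : ∀ ξ, openSub B (O' ξ) ⟶ openSub B₀ (D ξ).O := fun ξ =>
    MorphismProperty.Over.homMk (IsOpenImmersion.lift (D ξ).O.ι ((O' ξ).ι ≫ k.left) (hr ξ)) (by
      change IsOpenImmersion.lift (D ξ).O.ι ((O' ξ).ι ≫ k.left) (hr ξ) ≫ (D ξ).O.ι ≫ _ = (O' ξ).ι ≫ _
      rw [IsOpenImmersion.lift_fac_assoc, Category.assoc]
      exact congrArg ((O' ξ).ι ≫ ·) (Over.w k.hom)) trivial
  obtain ⟨τ, hτ⟩ := exists_glue_disjoint F O'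
    (fun a c hne => (hPd a c hne).preimage _)
    (fun p => by
      have hp : k.left p ∈ ⋃ ξ, P ξ := by
        by_contra hp
        exact mem_of_map_openSub f O p ⟨_, hp, rfl⟩
      obtain ⟨ξ, hξ⟩ := Set.mem_iUnion.1 hp
      exact ⟨ξ, hξ⟩)
    (fun ξ => F.obj.map (m ξ).op (D ξ).sct)
  refine ⟨(Scheme.pointSmallEtale η).toPresheafFiber (openSub V₀ O) (ptOpen O s₀ hs)
    ((EtDesc.pushSh f).obj F).obj τ, fun ξ => ?_⟩
  let q := ptUpAt f ξ.2 (ptOpen O s₀ hs)
  have hkq : (Scheme.pointSmallEtale ξ.1).fiber.map k q = ptUpAt f ξ.2 s₀ :=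
    (ptUpAt_map f ξ.2 (openSubι V₀ O) _).trans (congrArg _ (map_ptOpen O s₀ hs))
  have hq : hom ξ.1 q default ∈ O' ξ := by
    change k.left (hom ξ.1 q default) ∈ P ξ
    have e : k.left (hom ξ.1 q default) = hom ξ.1 (ptUpAt f ξ.2 s₀) default := by
      rw [← hkq]
      rfl
    rw [e]
    exact hPmem ξ
  rw [pushShMapAt_germ]
  have e := (Scheme.pointSmallEtale ξ.1).toPresheafFiber_w_apply (openSubι B (O' ξ)) (ptOpen _ q hq) F.obj τ
  rw [map_ptOpen] at e
  refine e.symm.trans ((congrArg _ (hτ ξ)).trans (Eq.trans ?_ (D ξ).germ_sct))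
  refine ((Scheme.pointSmallEtale ξ.1).toPresheafFiber_w_apply (m ξ) _ F.obj (D ξ).sct).trans ?_
  refine congrArg (fun q : Pt ξ.1 _ => (Scheme.pointSmallEtale ξ.1).toPresheafFiber _ q F.obj (D ξ).sct)
    (Unr55.EtSh.hom_ext ξ.1 ?_)
  refine (cancel_mono (D ξ).O.ι).1 ?_
  change (liftOpen (O' ξ) _ hq ≫ IsOpenImmersion.lift (D ξ).O.ι ((O' ξ).ι ≫ k.left) (hr ξ)) ≫ (D ξ).O.ι =
    liftOpen (D ξ).O _ (D ξ).mem ≫ (D ξ).O.ι
  rw [Category.assoc, IsOpenImmersion.lift_fac, reassoc_of% liftOpen_fac (O' ξ) _ hq]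
  refine Eq.trans ?_ (liftOpen_fac (D ξ).O _ (D ξ).mem).symm
  exact congrArg (fun q => hom ξ.1 q) hkq

/-- All components at once. -/
noncomputable def pushShMapPi (η : Spec (CommRingCat.of Ω) ⟶ Y) :
    EtDesc.pushSh f ⋙ stalkSh η ⟶
      ∏ᶜ fun ξ : {ξ : Spec (CommRingCat.of Ω) ⟶ X // ξ ≫ f = η} => stalkSh ξ.1 :=
  Pi.lift fun ξ => pushShMapAt f ξ.2

theorem isIso_pushShMapPi [IsFinite f] [IsAlgClosed Ω] (η : Spec (CommRingCat.of Ω) ⟶ Y) :
    IsIso (pushShMapPi f η) := by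
  have : ∀ F, IsIso ((pushShMapPi f η).app F) := fun F => by
    let S := fun ξ : GPt f η => (stalkSh ξ.1 : EtDesc.Sh X ⥤ Type (u + 1))
    let ev := (evaluation (EtDesc.Sh X) (Type (u + 1))).obj F
    let e₁ := PreservesProduct.iso ev S
    let e₂ := Concrete.productEquiv (fun ξ => (S ξ).obj F)
    have he : ∀ a ξ, e₂ (e₁.hom ((pushShMapPi f η).app F a)) ξ = (pushShMapAt f ξ.2).app F a := fun a ξ => by
      refine (Concrete.productEquiv_apply_apply _ _ ξ).trans ?_
      have h1 : e₁.hom ≫ Pi.π (fun ξ => ev.obj (S ξ)) ξ = ev.map (Pi.π S ξ) := by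
        rw [PreservesProduct.iso_hom]
        exact piComparison_comp_π _ _ _
      refine (ConcreteCategory.congr_hom h1 ((pushShMapPi f η).app F a)).trans ?_
      exact ConcreteCategory.congr_hom (congrArg (fun v => NatTrans.app v F)
        (Pi.lift_π (fun ξ : GPt f η => pushShMapAt f ξ.2) ξ)) a
    have hb : Function.Bijective (fun a => e₂ (e₁.hom ((pushShMapPi f η).app F a))) := by
      refine ⟨fun a a' e => pushShMapAt_injective f F a a' fun ξ h => ?_, fun v => ?_⟩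
      · exact (he a ⟨ξ, h⟩).symm.trans ((congrFun e ⟨ξ, h⟩).trans (he a' ⟨ξ, h⟩))
      · obtain ⟨a, ha⟩ := pushShMap_surjective f F v
        exact ⟨a, funext fun ξ => (he a ξ).trans (ha ξ)⟩
    rw [isIso_iff_bijective]
    exact ((e₁.toEquiv.trans e₂).comp_bijective _).1 hb
  exact NatIso.isIso_of_isIso_app _

end Groth.Agent.EtSets93
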