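import Groth.Agent.Unr55.Et.StrictHens
import Groth.Agent.An92.EtSets.Stalk

/-!
Global sections of sheaves of sets over a strictly henselian local ring.
-/

universe u

open CategoryTheory CategoryTheory.Limits AlgebraicGeometry Opposite

namespace Groth.Agent.EtSets93

open Groth.Agent.Unr55.EtSh Groth.Agent.An92.EtSets

set_option backward.isDefEq.respectTransparency.types false

variable (R : Type u) [CommRing R] [HenselianLocalRing R] [IsSepClosed (IsLocalRing.ResidueField R)]

theorem fiber_top_bijective (F : EtDesc.Sh (Spec (CommRingCat.of R))) :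
    Function.Bijective ((Scheme.pointSmallEtale (closedPt R)).toPresheafFiber (A := Type (u + 1))
      (EtCoh.top (Spec (CommRingCat.of R))) (topPt R) F.obj) := by
  constructor
  · intro σ τ h
    obtain ⟨V, g, t, -, h2⟩ := ((Scheme.pointSmallEtale (closedPt R)).toPresheafFiber_eq_iff' (P := F.obj)
      (EtCoh.top (Spec (CommRingCat.of R))) (topPt R) σ τ).1 h
    obtain ⟨s, -⟩ := exists_section_top R t
    have hid : s ≫ g = 𝟙 _ := by
      refine MorphismProperty.Over.Hom.ext ?_
      have e : (s ≫ g).left ≫ (EtCoh.top (Spec (CommRingCat.of R))).hom =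
        (EtCoh.top (Spec (CommRingCat.of R))).hom := Over.w (s ≫ g).hom
      exact (Category.comp_id _).symm.trans e
    have e : F.obj.map (s ≫ g).op σ = F.obj.map (s ≫ g).op τ := by
      simp only [op_comp, Functor.map_comp]
      exact congrArg (F.obj.map s.op) h2
    rwa [hid, op_id, CategoryTheory.Functor.map_id] at e
  · intro a
    obtain ⟨U, t, τ, rfl⟩ := (Scheme.pointSmallEtale (closedPt R)).toPresheafFiber_jointly_surjective (P := F.obj) a
    obtain ⟨g, hg⟩ := exists_section_top R t
    refine ⟨F.obj.map g.op τ, ?_⟩
    rw [← hg]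
    exact (Scheme.pointSmallEtale (closedPt R)).toPresheafFiber_w_apply g (topPt R) F.obj τ

/-- The stalk at the closed geometric point is the set of global sections. -/
noncomputable def stalkTopIso :
    stalkSh (closedPt R) ≅ (sheafSections (Spec (CommRingCat.of R)).smallEtaleTopology (Type (u + 1))).obj
      (op (EtCoh.top (Spec (CommRingCat.of R)))) :=
  let α : (sheafSections (Spec (CommRingCat.of R)).smallEtaleTopology (Type (u + 1))).obj
      (op (EtCoh.top (Spec (CommRingCat.of R)))) ⟶ stalkSh (closedPt R) :=
    { app := fun F => (Scheme.pointSmallEtale (closedPt R)).toPresheafFiber (A := Type (u + 1))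
        (EtCoh.top (Spec (CommRingCat.of R))) (topPt R) F.obj
      naturality := fun F G v =>
        ((Scheme.pointSmallEtale (closedPt R)).toPresheafFiber_naturality v.hom _ (topPt R)).symm }
  have : ∀ F, IsIso (α.app F) := fun F => (isIso_iff_bijective _).2 (fiber_top_bijective R F)
  have : IsIso α := NatIso.isIso_of_isIso_app α
  (asIso α).symm

end Groth.Agent.EtSets93
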